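import Cfsg.Agent.Lib.FStarTools.Basic
import Cfsg.Agent.Lib.CharP.Basic
import Cfsg.Agent.Lib.LAEven54.Subnormal

/-!
# The Thompson–Wielandt theorem

Owner: helper64. Two conjugate local subgroups `H ≠ K` of a finite group. If `P ≠ 1` is normal in `H` and
lies in the core of `H ⊓ K` in `K` subnormally in `K`, and symmetrically `Q`, then `F*(H) = O_p(H)` and
`P` is a `p`-group.
-/

set_option autoImplicit false
set_option linter.style.haveILetI false

open Cfsg
open scoped commutatorElement

namespace Cfsg.Agent.Lib.ThompsonWielandt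

open Cfsg.Agent.Lib.Components

variable {G : Type*} [Group G]

/-- The core of `X` in `H`. -/
def coreIn (H X : Subgroup G) : Subgroup G := (X.subgroupOf H).normalCore.map H.subtype

theorem coreIn_le (H X : Subgroup G) : coreIn H X ≤ H := Subgroup.map_subtype_le _

theorem coreIn_le_right (H X : Subgroup G) : coreIn H X ≤ X := by
  rintro _ ⟨x, hx, rfl⟩
  exact Subgroup.normalCore_le (X.subgroupOf H) hx

theorem subgroupOf_coreIn (H X : Subgroup G) : (coreIn H X).subgroupOf H = (X.subgroupOf H).normalCore :=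
  Subgroup.comap_map_eq_self_of_injective H.subtype_injective _

theorem le_normalizer_coreIn (H X : Subgroup G) : H ≤ Subgroup.normalizer (coreIn H X : Set G) := by
  refine (Subgroup.normal_subgroupOf_iff_le_normalizer (coreIn_le H X)).1 ?_
  rw [subgroupOf_coreIn]; infer_instance

theorem mem_coreIn {H X : Subgroup G} {x : G} :
    x ∈ coreIn H X ↔ x ∈ H ∧ ∀ h ∈ H, h * x * h⁻¹ ∈ X := by
  constructor
  · rintro ⟨x, hx, rfl⟩
    exact ⟨x.2, fun h hh => hx ⟨h, hh⟩⟩
  · rintro ⟨hx, h⟩
    exact ⟨⟨x, hx⟩, fun h' => h h' h'.2, rfl⟩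

/-- `H` is the full normalizer of each of its non-trivial normal subgroups. -/
def IsLocal (H : Subgroup G) : Prop :=
  ∀ X : Subgroup G, X ≤ H → X ≠ ⊥ → H ≤ Subgroup.normalizer (X : Set G) →
    Subgroup.normalizer (X : Set G) ≤ H

/-- Two distinct conjugate subgroups which are the normalizers of each of their normal subgroups. -/
structure Pair (H K : Subgroup G) : Prop where
  locH : IsLocal H
  locK : IsLocal K
  ne : H ≠ K
  conj : ∃ g : G, K = H.map (MulAut.conj g).toMonoidHom

theorem Pair.symm {H K : Subgroup G} (h : Pair H K) : Pair K H := by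
  refine ⟨h.locK, h.locH, h.ne.symm, ?_⟩
  obtain ⟨g, rfl⟩ := h.conj
  refine ⟨g⁻¹, ?_⟩
  rw [Subgroup.map_map]
  symm
  convert H.map_id
  ext x
  simp [mul_assoc]

theorem Pair.eq_bot {H K : Subgroup G} (h : Pair H K) {X : Subgroup G} (hH : X ≤ H) (hK : X ≤ K)
    (nH : H ≤ Subgroup.normalizer (X : Set G)) (nK : K ≤ Subgroup.normalizer (X : Set G)) : X = ⊥ := by
  by_contra hX
  exact h.ne (le_antisymm (nH.trans (h.locK X hK hX nK)) (nK.trans (h.locH X hH hX nH)))

theorem Pair.card_pCoreOf {H K : Subgroup G} (h : Pair H K) (p : ℕ) :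
    Nat.card (pCoreOf p K) = Nat.card (pCoreOf p H) := by
  obtain ⟨g, rfl⟩ := h.conj
  rw [pCoreOf, pCoreOf, Subgroup.card_map_of_injective (Subgroup.subtype_injective _),
    Subgroup.card_map_of_injective (Subgroup.subtype_injective _),
    ← Cores.map_pCore_equiv (H.equivMapOfInjective _ (MulAut.conj g).injective),
    Subgroup.card_map_of_injective (MulEquiv.injective _)]

/-- The layer of a subgroup, inside the ambient group. -/
def layerIn (H : Subgroup G) : Subgroup G := (layer ↥H).map H.subtype

theorem le_normalizer_map_subtype (H : Subgroup G) (N : Subgroup H) [N.Normal] :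
    H ≤ Subgroup.normalizer (N.map H.subtype : Set G) := by
  refine (Subgroup.normal_subgroupOf_iff_le_normalizer (Subgroup.map_subtype_le _)).1 ?_
  rw [show (N.map H.subtype).subgroupOf H = N from
    Subgroup.comap_map_eq_self_of_injective H.subtype_injective N]
  infer_instance

theorem le_normalizer_layerIn (H : Subgroup G) : H ≤ Subgroup.normalizer (layerIn H : Set G) := by
  have : (layer ↥H).Characteristic :=
    Subgroup.characteristic_iff_map_eq.2 fun e => Layer.map_layer e
  exact le_normalizer_map_subtype H _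

variable [Finite G]

omit [Finite G] in
theorem Pair.card_layerIn {H K : Subgroup G} (h : Pair H K) :
    Nat.card (layerIn K) = Nat.card (layerIn H) := by
  obtain ⟨g, rfl⟩ := h.conj
  rw [layerIn, layerIn, Subgroup.card_map_of_injective (Subgroup.subtype_injective _),
    Subgroup.card_map_of_injective (Subgroup.subtype_injective _),
    ← Layer.map_layer (H.equivMapOfInjective _ (MulAut.conj g).injective),
    Subgroup.card_map_of_injective (MulEquiv.injective _)]

/-- A `p`-subgroup of a `p`-subgroup which is not the whole of it has an element outside it normalizing it. -/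
theorem exists_normalizer_gt {p : ℕ} [Fact p.Prime] {W S : Subgroup G} (hS : IsPGroup p S) (hWS : W ≤ S)
    (hne : ¬ S ≤ W) : ∃ s ∈ S, s ∉ W ∧ s ∈ Subgroup.normalizer (W : Set G) := by
  haveI := hS.isNilpotent
  have hlt : W.subgroupOf S < ⊤ := by
    rw [lt_top_iff_ne_top, Ne, Subgroup.subgroupOf_eq_top]; exact hne
  obtain ⟨⟨s, hsS⟩, hs1, hs2⟩ := SetLike.exists_of_lt (Group.normalizerCondition_of_isNilpotent _ hlt)
  refine ⟨s, hsS, hs2, ?_⟩
  rw [Subgroup.mem_normalizer_iff] at hs1 ⊢
  intro x
  refine ⟨fun hx => (hs1 ⟨x, hWS hx⟩).1 hx, fun hx => ?_⟩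
  have hxS : x ∈ S := by
    have := S.mul_mem (S.mul_mem (S.inv_mem hsS) (hWS hx)) hsS
    simpa [mul_assoc] using this
  exact (hs1 ⟨x, hxS⟩).2 hx

/-- Elements of order prime to `p` in `P W` lie in `P`, for `P` subnormal in `K` and `W ≤ O_p(K)`. -/
theorem mem_of_coprime_sub {p : ℕ} [Fact p.Prime] {P K : Subgroup G} (hP : (P.subgroupOf K).IsSubnormal)
    {g x w : G} (hgK : g ∈ K) (hx : x ∈ P) (hxK : x ∈ K) (hw : w ∈ pCoreOf p K) (he : g = x * w)
    (hco : (orderOf g).Coprime p) : g ∈ P := by
  obtain ⟨w', hw', rfl⟩ := hw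
  have h := LAEven54.Subnormal.mem_of_coprime (G := K) hP (V := pCore p K) (Cores.pCore_isPGroup p)
    (g := ⟨g, hgK⟩) ?_ (by rwa [Subgroup.orderOf_mk])
  · exact h
  · rw [Subgroup.mem_sup_of_normal_right]
    exact ⟨⟨x, hxK⟩, hx, w', hw', Subtype.ext he.symm⟩

/-- Main step: with `O_p(H) ≠ 1`, a normal subgroup of `H` lying subnormally in the kernel
`core_K(H ⊓ K)` is a `p`-group. -/
theorem isPGroup_of_pCore_ne_bot {H K P : Subgroup G} (hp : Pair H K) {p : ℕ} [Fact p.Prime]
    (hV : pCoreOf p H ≠ ⊥) (hPH : H ≤ Subgroup.normalizer (P : Set G))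
    (hPK1 : P ≤ coreIn K (H ⊓ K)) (hsn : (P.subgroupOf K).IsSubnormal) : IsPGroup p P := by
  set V := pCoreOf p H with hVdef
  set W := pCoreOf p K with hWdef
  set K1 := coreIn K (H ⊓ K) with hK1
  have hVp : IsPGroup p V := CharP.isPGroup_pCoreOf p H
  have hWp : IsPGroup p W := CharP.isPGroup_pCoreOf p K
  have hVH : V ≤ H := CharP.pCoreOf_le p H
  have hWK : W ≤ K := CharP.pCoreOf_le p K
  have hcard : Nat.card W = Nat.card V := hp.card_pCoreOf p
  have hW : W ≠ ⊥ := fun h => hV (Subgroup.card_eq_one.1 (by rw [← hcard]; exact Subgroup.card_eq_one.2 h))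
  have hPK : P ≤ H ⊓ K := hPK1.trans (coreIn_le_right K _)
  by_contra hPp
  set U := (pResidual p P).map P.subtype with hUdef
  have hU : U ≠ ⊥ := by
    intro h
    refine hPp (CharP.isPGroup_of_coprime_eq_one fun g hg hco => ?_)
    have : g ∈ U := by
      rw [hUdef, CharP.map_pResidual_subtype]
      exact Subgroup.subset_closure ⟨hg, hco⟩
    rwa [h, Subgroup.mem_bot] at this
  have hUP : U ≤ P := Subgroup.map_subtype_le _
  have hUH : H ≤ Subgroup.normalizer (U : Set G) := by
    rw [hUdef, CharP.map_pResidual_subtype, Subgroup.le_normalizer_closure_iff]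
    rintro h hh g ⟨hg, hco⟩
    exact Subgroup.subset_closure ⟨(Subgroup.mem_normalizer_iff.1 (hPH hh) g).1 hg,
      by rwa [show orderOf (h * g * h⁻¹) = orderOf g from (MulAut.conj h).orderOf_eq g]⟩
  -- an element of `K` moving the generators of `U` only by `W` normalizes `U`
  have key : ∀ v ∈ K, (∀ g ∈ P, v * g * v⁻¹ * g⁻¹ ∈ W) → v ∈ H := by
    intro v hvK hv
    refine hp.locH U (hUP.trans (hPK.trans inf_le_left)) hU hUH ?_
    have hle : U.map (MulAut.conj v).toMonoidHom ≤ U := by
      rw [hUdef, CharP.map_pResidual_subtype, MonoidHom.map_closure, Subgroup.closure_le]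
      rintro _ ⟨g, ⟨hg, hco⟩, rfl⟩
      simp only [MulEquiv.coe_toMonoidHom, MulAut.conj_apply]
      have hco' : (orderOf (v * g * v⁻¹)).Coprime p := by
        rwa [show orderOf (v * g * v⁻¹) = orderOf g from (MulAut.conj v).orderOf_eq g]
      have hgK : g ∈ K := (hPK hg).2
      refine Subgroup.subset_closure ⟨?_, hco'⟩
      have hw : g⁻¹ * (v * g * v⁻¹ * g⁻¹) * g ∈ W := by
        have := (Subgroup.mem_normalizer_iff.1 (CharP.le_normalizer_pCoreOf p K (K.inv_mem hgK)) _).1 (hv g hg)
        simpa using this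
      exact mem_of_coprime_sub hsn (K.mul_mem (K.mul_mem hvK hgK) (K.inv_mem hvK)) hg hgK hw (by group) hco'
    rw [Subgroup.mem_normalizer_iff_map_conj_eq]
    exact Subgroup.eq_of_le_of_card_ge hle
      (Subgroup.card_map_of_injective (MulEquiv.injective (MulAut.conj v))).ge
  have hWH : W ≤ H := fun w hw => key w (hWK hw) fun g hg => by
    have hgK : g ∈ K := (hPK hg).2
    have := W.mul_mem hw ((Subgroup.mem_normalizer_iff.1 (CharP.le_normalizer_pCoreOf p K hgK) _).1 (W.inv_mem hw))
    simpa [mul_assoc] using this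
  -- `V ⊓ K` is not inside `W`
  have hV0 : ¬ V ⊓ K ≤ W := by
    intro hle
    have hn : W ≤ Subgroup.normalizer (V : Set G) := hWH.trans (CharP.le_normalizer_pCoreOf p H)
    have hS : IsPGroup p (W ⊔ V : Subgroup G) := hWp.to_sup_of_normal_right' hVp hn
    have hVW : V ≤ W := by
      by_contra hc
      obtain ⟨s, hs, hsW, hsn'⟩ := exists_normalizer_gt hS le_sup_left fun h => hc (le_sup_right.trans h)
      rw [← SetLike.mem_coe, Subgroup.coe_mul_of_left_le_normalizer_right _ _ hn] at hs
      obtain ⟨w, hw, v, hv, rfl⟩ := hs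
      have hsK : w * v ∈ K := hp.locK W hWK hW (CharP.le_normalizer_pCoreOf p K) hsn'
      have hvK : v ∈ K := by simpa using K.mul_mem (K.inv_mem (hWK hw)) hsK
      exact hsW (W.mul_mem hw (hle ⟨hv, hvK⟩))
    have heq : V = W := Subgroup.eq_of_le_of_card_ge hVW hcard.le
    exact hV (hp.eq_bot hVH (heq.le.trans hWK) (CharP.le_normalizer_pCoreOf p H)
      (heq ▸ CharP.le_normalizer_pCoreOf p K))
  have hK1J : K1 ≤ H ⊓ K := coreIn_le_right K _
  have hK1n : K ≤ Subgroup.normalizer (K1 : Set G) := le_normalizer_coreIn K _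
  have hn0 : H ⊓ K ≤ Subgroup.normalizer ((V ⊓ K : Subgroup G) : Set G) := fun x hx => by
    rw [Subgroup.mem_normalizer_iff]
    intro y
    rw [Subgroup.mem_inf, Subgroup.mem_inf,
      Subgroup.mem_normalizer_iff.1 (CharP.le_normalizer_pCoreOf p H hx.1) y]
    refine and_congr_right fun _ => ⟨fun h => K.mul_mem (K.mul_mem hx.2 h) (K.inv_mem hx.2), fun h => ?_⟩
    simpa [mul_assoc] using K.mul_mem (K.mul_mem (K.inv_mem hx.2) h) hx.2
  -- normal `p`-subgroups of `K1` lie in `W`
  have hsub : ∀ X : Subgroup G, IsPGroup p X → X ≤ K1 → K1 ≤ Subgroup.normalizer (X : Set G) → X ≤ W := by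
    intro X hX hXK1 hXn
    have hXK : X ≤ K := hXK1.trans (coreIn_le K _)
    have h1 : (X.subgroupOf K).IsSubnormal := by
      refine Subgroup.IsSubnormal.step _ (K1.subgroupOf K) (fun x hx => hXK1 hx) ?_ ?_
      · refine Subgroup.Normal.isSubnormal ?_
        exact (Subgroup.normal_subgroupOf_iff_le_normalizer (coreIn_le K _)).2 hK1n
      · refine (Subgroup.normal_subgroupOf_iff_le_normalizer
          (show X.subgroupOf K ≤ K1.subgroupOf K from fun x hx => hXK1 hx)).2 ?_
        intro x hx
        rw [Subgroup.mem_normalizer_iff]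
        intro y
        exact Subgroup.mem_normalizer_iff.1 (hXn hx) y
    rw [← Subgroup.map_subgroupOf_eq_of_le hXK]
    exact Subgroup.map_mono (Cores.IsSubnormal.le_pCore h1 hX.comap_subtype)
  refine hV0 (hsub _ (hVp.to_le inf_le_left) (fun v hv => ?_) (hK1J.trans hn0))
  -- `V ⊓ K` lies in `K1`
  refine mem_coreIn.2 ⟨hv.2, fun k hk => ⟨?_, K.mul_mem (K.mul_mem hk hv.2) (K.inv_mem hk)⟩⟩
  refine key _ (K.mul_mem (K.mul_mem hk hv.2) (K.inv_mem hk)) fun g hg => ?_
  have hg' : k⁻¹ * g * k ∈ K1 := (Subgroup.mem_normalizer_iff''.1 (hK1n hk) g).1 (hPK1 hg)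
  have hc : v * (k⁻¹ * g * k) * v⁻¹ * (k⁻¹ * g * k)⁻¹ ∈ (V ⊓ K) ⊓ K1 := by
    refine ⟨?_, K1.mul_mem ((Subgroup.mem_normalizer_iff.1 (hK1n hv.2) _).1 hg') (K1.inv_mem hg')⟩
    have := (V ⊓ K).mul_mem hv
      ((Subgroup.mem_normalizer_iff.1 (hn0 (hK1J hg')) _).1 ((V ⊓ K).inv_mem hv))
    simpa [mul_assoc] using this
  have hmem := hsub _ (hVp.to_le (inf_le_left.trans inf_le_left)) inf_le_right
    (fun x hx => Subgroup.inf_normalizer_le_normalizer_inf ⟨hn0 (hK1J hx), Subgroup.le_normalizer hx⟩) hc
  have h2 := (Subgroup.mem_normalizer_iff.1 (CharP.le_normalizer_pCoreOf p K hk) _).1 hmem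
  convert h2 using 1
  group

/-- A perfect subgroup commutes with a subgroup once its elements of order prime to `p` do. -/
theorem le_centralizer_of_coprime {p : ℕ} [Fact p.Prime] {L V : Subgroup G} (hL : ⁅L, L⁆ = L)
    (h : ∀ x ∈ L, (orderOf x).Coprime p → ∀ v ∈ V, Commute x v) :
    L ≤ Subgroup.centralizer (V : Set G) := by
  have h1 : pResidual p L = ⊤ := by
    haveI : Group.IsPerfect L := Subgroup.isPerfect_iff.2 hL
    haveI := (CharP.isPGroup_quotient_pResidual (G := L) (p := p)).isNilpotent
    by_contra hne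
    haveI : Nontrivial (L ⧸ pResidual p L) := QuotientGroup.nontrivial_iff.2 hne
    haveI : Group.IsPerfect (L ⧸ pResidual p L) :=
      Group.IsPerfect.ofSurjective (QuotientGroup.mk'_surjective (pResidual p L))
    exact (Group.IsPerfect.not_isSolvable (G := L ⧸ pResidual p L)) inferInstance
  have h2 : (pResidual p L).map L.subtype = L := by
    rw [h1, ← MonoidHom.range_eq_map, Subgroup.range_subtype]
  rw [← h2, CharP.map_pResidual_subtype, Subgroup.closure_le]
  rintro x ⟨hx, hco⟩
  rw [SetLike.mem_coe, Subgroup.mem_centralizer_iff]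
  exact fun v hv => (h x hx hco v hv).eq.symm

/-- Components normalize subnormal subgroups. -/
theorem layerIn_le_normalizer {K P : Subgroup G} (hPK : P ≤ K) (hsn : (P.subgroupOf K).IsSubnormal) :
    layerIn K ≤ Subgroup.normalizer (P : Set G) := by
  have h : layer ↥K ≤ Subgroup.normalizer ((P.subgroupOf K) : Set K) := sSup_le fun L hL => by
    rcases Component.le_or_commutator_eq_bot hL hsn with h | h
    · exact h.trans Subgroup.le_normalizer
    · exact (Subgroup.commutator_eq_bot_iff_le_centralizer.1 (Subgroup.commutator_comm _ L ▸ h)).trans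
        (Subgroup.centralizer_le_normalizer _)
  rintro _ ⟨x, hx, rfl⟩
  have hx' := Subgroup.mem_normalizer_iff.1 (h hx)
  rw [Subgroup.mem_normalizer_iff]
  intro y
  refine ⟨fun hy => (hx' ⟨y, hPK hy⟩).1 hy, fun hy => ?_⟩
  have hyK : y ∈ K := by
    have := K.mul_mem (K.mul_mem (K.inv_mem x.2) (hPK hy)) x.2
    simpa [mul_assoc] using this
  exact (hx' ⟨y, hyK⟩).2 hy

/-- **Thompson–Wielandt**: `F*(H) = O_p(H)` and `P` is a `p`-group. -/
theorem main {H K P Q : Subgroup G} (hp : Pair H K)
    (hPH : H ≤ Subgroup.normalizer (P : Set G)) (hPK1 : P ≤ coreIn K (H ⊓ K))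
    (hPsn : (P.subgroupOf K).IsSubnormal) (hP : P ≠ ⊥)
    (hQK : K ≤ Subgroup.normalizer (Q : Set G)) (hQH1 : Q ≤ coreIn H (K ⊓ H))
    (hQsn : (Q.subgroupOf H).IsSubnormal) (hQ : Q ≠ ⊥) :
    ∃ p : ℕ, p.Prime ∧ IsPGroup p P ∧ IsPGroup p Q ∧
      generalizedFittingSubgroup ↥H = pCore p ↥H := by
  have hPJ : P ≤ H ⊓ K := hPK1.trans (coreIn_le_right K _)
  have hQJ : Q ≤ K ⊓ H := hQH1.trans (coreIn_le_right H _)
  have hPgroups : ∀ p : ℕ, p.Prime → pCore p ↥H ≠ ⊥ → IsPGroup p P ∧ IsPGroup p Q := by
    intro p hpp hne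
    haveI := Fact.mk hpp
    have hV : pCoreOf p H ≠ ⊥ := fun h => hne
      ((Subgroup.map_eq_bot_iff_of_injective _ H.subtype_injective).1 h)
    refine ⟨isPGroup_of_pCore_ne_bot hp hV hPH hPK1 hPsn, isPGroup_of_pCore_ne_bot hp.symm ?_ hQK hQH1 hQsn⟩
    intro h
    exact hV (Subgroup.card_eq_one.1 (by rw [← hp.card_pCoreOf]; exact Subgroup.card_eq_one.2 h))
  have hfit : ∀ p : ℕ, p.Prime → pCore p ↥H ≠ ⊥ → fittingSubgroup ↥H = pCore p ↥H := by
    intro p hpp hne
    haveI := Fact.mk hpp
    refine le_antisymm ?_ (Cores.pCore_le_fittingSubgroup p)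
    rw [Cores.fittingSubgroup_eq_iSup_pCore]
    refine iSup_le fun q => ?_
    by_contra hq
    have hqp : (q : ℕ) ≠ p := fun e => hq (le_of_eq (by rw [e]))
    haveI := Fact.mk q.2
    have hq0 : pCore (q : ℕ) ↥H ≠ ⊥ := fun e => hq (e.le.trans bot_le)
    refine hP (disjoint_self.1 ?_)
    exact IsPGroup.disjoint_of_ne (q : ℕ) p hqp P P (hPgroups q q.2 hq0).1 (hPgroups p hpp hne).1
  -- the layers lie in both subgroups
  have hRH : layerIn K ≤ H :=
    (layerIn_le_normalizer (hPJ.trans inf_le_right) hPsn).trans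
      (hp.locH P (hPJ.trans inf_le_left) hP hPH)
  have hEK : layerIn H ≤ K :=
    (layerIn_le_normalizer (hQJ.trans inf_le_right) hQsn).trans
      (hp.locK Q (hQJ.trans inf_le_left) hQ hQK)
  have hE : layer ↥H = ⊥ := by
    by_contra hne
    have hE' : layerIn H ≠ ⊥ := fun h => hne ((Subgroup.map_eq_bot_iff_of_injective _ H.subtype_injective).1 h)
    have hnE := le_normalizer_layerIn H
    have hnR := le_normalizer_layerIn K
    suffices hle : layerIn K ≤ layerIn H by
      have heq : layerIn K = layerIn H := Subgroup.eq_of_le_of_card_ge hle hp.card_layerIn.ge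
      exact hE' (hp.eq_bot (Subgroup.map_subtype_le _) hEK hnE (heq ▸ hnR))
    refine Subgroup.map_le_iff_le_comap.2 (sSup_le fun L hL => ?_)
    rw [← Subgroup.map_le_iff_le_comap]
    by_contra hLE
    set L' := L.map K.subtype with hL'
    have hL'R : L' ≤ layerIn K := Subgroup.map_mono (Layer.component_le_layer hL)
    have hperf : ⁅L', L'⁆ = L' := by
      rw [hL', ← Subgroup.map_commutator, Component.commutator_self hL]
    -- a subgroup of `layerIn K` normalized by it is subnormal in `K`
    have hsn : ∀ I : Subgroup G, I ≤ layerIn K → layerIn K ≤ Subgroup.normalizer (I : Set G) →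
        L ≤ I.subgroupOf K ∨ ⁅I, L'⁆ = ⊥ := by
      intro I hI hIn
      have hIs : (I.subgroupOf K).IsSubnormal := by
        refine Subgroup.IsSubnormal.step _ ((layerIn K).subgroupOf K) (fun x hx => hI hx) ?_ ?_
        · refine Subgroup.Normal.isSubnormal ?_
          exact (Subgroup.normal_subgroupOf_iff_le_normalizer (Subgroup.map_subtype_le _)).2 hnR
        · refine (Subgroup.normal_subgroupOf_iff_le_normalizer
            (show I.subgroupOf K ≤ (layerIn K).subgroupOf K from fun x hx => hI hx)).2 ?_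
          intro x hx
          rw [Subgroup.mem_normalizer_iff]
          intro y
          exact Subgroup.mem_normalizer_iff.1 (hIn hx) y
      refine (Component.le_or_commutator_eq_bot hL hIs).imp_right fun h => ?_
      have h' := congrArg (Subgroup.map K.subtype) h
      rwa [Subgroup.map_commutator, Subgroup.map_bot,
        Subgroup.map_subgroupOf_eq_of_le (hI.trans (Subgroup.map_subtype_le _))] at h'
    -- `L'` centralizes the layer of `H`
    have hLcE : L' ≤ Subgroup.centralizer (layerIn H : Set G) := by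
      have hI := hsn (layerIn H ⊓ layerIn K) inf_le_right
        (fun x hx => Subgroup.inf_normalizer_le_normalizer_inf ⟨hnE (hRH hx), Subgroup.le_normalizer hx⟩)
      rcases hI with h | h
      · exact absurd ((Subgroup.map_le_iff_le_comap.2 h).trans inf_le_left) hLE
      · rw [← Subgroup.commutator_eq_bot_iff_le_centralizer, Subgroup.commutator_comm]
        refine commutator_eq_bot_of_perfect hperf (le_bot_iff.1 (le_trans ?_ h.le))
        refine Subgroup.commutator_mono (le_inf ?_ ?_) le_rfl
        · exact Subgroup.le_normalizer_iff_commutator_le_left.1 ((hL'R.trans hRH).trans hnE)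
        · refine (Subgroup.commutator_mono le_rfl hL'R).trans ?_
          exact Subgroup.le_normalizer_iff_commutator_le_right.1 (hEK.trans hnR)
    -- `L'` centralizes the Fitting subgroup of `H`
    have hLcF : L' ≤ Subgroup.centralizer ((fittingSubgroup ↥H).map H.subtype : Set G) := by
      by_cases h0 : ∀ p : ℕ, p.Prime → pCore p ↥H = ⊥
      · have : fittingSubgroup ↥H = ⊥ := by
          rw [Cores.fittingSubgroup_eq_iSup_pCore]
          exact le_bot_iff.1 (iSup_le fun q => (h0 q q.2).le)
        rw [this, Subgroup.map_bot]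
        intro x _
        rw [Subgroup.mem_centralizer_iff]
        intro y hy
        rw [Subgroup.mem_bot.1 hy, one_mul, mul_one]
      push Not at h0
      obtain ⟨p, hpp, hne'⟩ := h0
      haveI := Fact.mk hpp
      rw [hfit p hpp hne', ← pCoreOf]
      set V := pCoreOf p H with hVdef
      obtain ⟨-, hQp⟩ := hPgroups p hpp hne'
      have hnV : H ≤ Subgroup.normalizer (V : Set G) := CharP.le_normalizer_pCoreOf p H
      have hRQ : layerIn K ≤ Subgroup.centralizer (Q : Set G) := by
        haveI : (Q.subgroupOf K).Normal :=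
          (Subgroup.normal_subgroupOf_iff_le_normalizer (hQJ.trans inf_le_left)).2 hQK
        have h1 : Q.subgroupOf K ≤ fittingSubgroup ↥K :=
          (Cores.le_pCore (N := Q.subgroupOf K) hQp.comap_subtype).trans (Cores.pCore_le_fittingSubgroup p)
        rintro _ ⟨x, hx, rfl⟩
        rw [Subgroup.mem_centralizer_iff]
        intro q hq
        have h2 := Subgroup.mem_centralizer_iff.1
          ((Subgroup.le_centralizer_iff.1 Layer.fitting_le_centralizer_layer) hx)
          ⟨q, (hQJ.trans inf_le_left) hq⟩ (h1 hq)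
        exact congrArg Subtype.val h2
      have hQH : Q ≤ H := hQJ.trans inf_le_right
      have hQV : Q ≤ V := by
        rw [hVdef, ← Subgroup.map_subgroupOf_eq_of_le hQH]
        exact Subgroup.map_mono (Cores.IsSubnormal.le_pCore hQsn hQp.comap_subtype)
      set X := V ⊓ Subgroup.centralizer (Q : Set G) with hXdef
      have hXK : X ≤ K := inf_le_right.trans ((Subgroup.centralizer_le_normalizer _).trans
        (hp.locK Q (hQJ.trans inf_le_left) hQ hQK))
      have hnX : layerIn K ≤ Subgroup.normalizer (X : Set G) := fun x hx =>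
        Subgroup.inf_normalizer_le_normalizer_inf ⟨hnV (hRH hx),
          Subgroup.le_normalizer (hRQ hx)⟩
      have hXL : ⁅X, L'⁆ = ⊥ := by
        rcases hsn (X ⊓ layerIn K) inf_le_right
          (fun x hx => Subgroup.inf_normalizer_le_normalizer_inf ⟨hnX hx, Subgroup.le_normalizer hx⟩) with h | h
        · exfalso
          have hXp : IsPGroup p X := (CharP.isPGroup_pCoreOf p H).to_le inf_le_left
          haveI := hXp.isNilpotent
          have hs : Group.IsSolvable ↥((X ⊓ layerIn K).subgroupOf K) :=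
            Group.isSolvable_of_isSolvable_injective (G := ↥((X ⊓ layerIn K).subgroupOf K)) (G' := ↥X)
              (f := MonoidHom.mk' (fun x => ⟨((x : ↥K) : G), x.2.1⟩) fun _ _ => rfl)
              (fun a b hab => Subtype.ext (Subtype.ext (congrArg (fun z : ↥X => (z : G)) hab)))
          exact @Component.not_le_of_isSolvable _ _ _ hL _ hs h
        · refine commutator_eq_bot_of_perfect hperf (le_bot_iff.1 (le_trans ?_ h.le))
          refine Subgroup.commutator_mono (le_inf ?_ ?_) le_rfl
          · exact Subgroup.le_normalizer_iff_commutator_le_left.1 (hL'R.trans hnX)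
          · refine (Subgroup.commutator_mono le_rfl hL'R).trans ?_
            exact Subgroup.le_normalizer_iff_commutator_le_right.1 (hXK.trans hnR)
      refine le_centralizer_of_coprime (p := p) hperf fun x hx hco v hv => ?_
      refine CharP.commute_of_axb hQp hco ?_ (CharP.isPGroup_pCoreOf p H) (hQH.trans hnV)
        (hnV (hRH (hL'R hx))) ?_ v hv
      · exact fun q hq => (Subgroup.mem_centralizer_iff.1 (hRQ (hL'R hx)) q hq).symm
      · intro u hu huQ
        have huX : u ∈ X := ⟨hu, Subgroup.mem_centralizer_iff.2 fun q hq => (huQ q hq).eq.symm⟩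
        exact Subgroup.mem_centralizer_iff.1
          (Subgroup.commutator_eq_bot_iff_le_centralizer.1 hXL huX) x hx
    -- so it lies in a nilpotent group
    have hLH : L' ≤ H := hL'R.trans hRH
    have hcent : L'.subgroupOf H ≤ fittingSubgroup ↥H := by
      refine le_trans ?_ (FStarTools.center_genFitting_le (X := ↥H))
      intro x hx
      rw [Subgroup.mem_centralizer_iff]
      have hsup : generalizedFittingSubgroup ↥H ≤ Subgroup.centralizer ({x} : Set ↥H) := by
        refine sup_le (fun y hy => ?_) (fun y hy => ?_) <;> rw [Subgroup.mem_centralizer_singleton_iff] <;>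
          apply Subtype.ext
        · exact Subgroup.mem_centralizer_iff.1 (hLcE hx) y ⟨y, hy, rfl⟩
        · exact Subgroup.mem_centralizer_iff.1 (hLcF hx) y ⟨y, hy, rfl⟩
      exact fun y hy => Subgroup.mem_centralizer_singleton_iff.1 (hsup hy)
    haveI := FStarTools.isSolvable_fitting (X := ↥H)
    haveI : Group.IsSolvable ↥(L'.subgroupOf H) :=
      Group.isSolvable_of_isSolvable_injective (f := Subgroup.inclusion hcent) (Subgroup.inclusion_injective hcent)
    haveI : Group.IsSolvable ↥L' :=
      Group.isSolvable_of_isSolvable_injective (f := (Subgroup.subgroupOfEquivOfLe hLH).symm.toMonoidHom)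
        (MulEquiv.injective _)
    exact Component.not_isSolvable hL
      (Group.isSolvable_of_isSolvable_injective (f := (L.equivMapOfInjective _ K.subtype_injective).toMonoidHom)
        (MulEquiv.injective _))
  have hF : generalizedFittingSubgroup ↥H = fittingSubgroup ↥H := by
    rw [generalizedFittingSubgroup, hE, bot_sup_eq]
  haveI : Nontrivial H :=
    (Subgroup.nontrivial_iff_ne_bot H).2 fun h => hP (le_bot_iff.1 (h ▸ hPJ.trans inf_le_left))
  have hne0 := GenFitting.ne_bot (G := ↥H)
  rw [hF, Cores.fittingSubgroup_eq_iSup_pCore] at hne0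
  simp only [ne_eq, iSup_eq_bot, not_forall] at hne0
  obtain ⟨q, hq⟩ := hne0
  exact ⟨q, q.2, (hPgroups q q.2 hq).1, (hPgroups q q.2 hq).2, by rw [hF, hfit q q.2 hq]⟩

end Cfsg.Agent.Lib.ThompsonWielandt
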