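import Cfsg.Agent.Lib.ThompsonWielandt.Core

/-!
# The bound `d! ((d - 1)!) ^ d` and the point stabilizers of a primitive group

Owner: helper64.
-/

set_option autoImplicit false
set_option linter.style.haveILetI false

open Cfsg MulAction
open scoped Nat

namespace Cfsg.Agent.Lib.ThompsonWielandt

variable {G : Type*} [Group G] [Finite G]

theorem index_normalCore_dvd {X : Type*} [Group X] [Finite X] (S : Subgroup X) :
    S.normalCore.index ∣ (S.index)! := by
  rw [Subgroup.normalCore_eq_ker, Subgroup.index_ker, Subgroup.index, ← Nat.card_perm]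
  exact Subgroup.card_subgroup_dvd_card _

theorem relIndex_coreIn_dvd (H X : Subgroup G) : (coreIn H X).relIndex H ∣ (X.relIndex H)! := by
  rw [Subgroup.relIndex, subgroupOf_coreIn]
  exact index_normalCore_dvd _

/-- A normal subgroup of index dividing `m` in `S`, intersected over the conjugates. -/
theorem index_normalCore_inf_dvd {X : Type*} [Group X] [Finite X] (S A : Subgroup X) (hAS : A ≤ S)
    (hn : S ≤ Subgroup.normalizer (A : Set X)) (m : ℕ) (hm : A.relIndex S ∣ m) :
    (S.normalCore ⊓ A).normalCore.index ∣ (S.index)! * m ^ S.index := by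
  set D := S.normalCore with hD
  set N := D ⊓ A with hN
  haveI hA : (A.subgroupOf S).Normal := (Subgroup.normal_subgroupOf_iff_le_normalizer hAS).2 hn
  haveI hAD : (A.subgroupOf D).Normal :=
    Subgroup.normal_subgroupOf_of_le_normalizer (S.normalCore_le.trans hn)
  let f : D →* (c : X ⧸ S) → D ⧸ (A.subgroupOf D).comap (MulAut.conjNormal (c.out)⁻¹).toMonoidHom :=
    MonoidHom.pi fun c => QuotientGroup.mk' _
  have hker : f.ker = N.normalCore.subgroupOf D := by
    ext ⟨x, hxD⟩
    simp only [MonoidHom.mem_ker, funext_iff, f, MonoidHom.pi_apply, Pi.one_apply, QuotientGroup.mk'_apply,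
      QuotientGroup.eq_one_iff, Subgroup.mem_comap, MulEquiv.coe_toMonoidHom, Subgroup.mem_subgroupOf,
      MulAut.conjNormal_apply, inv_inv]
    constructor
    · intro h b
      refine ⟨(inferInstance : D.Normal).conj_mem x hxD b, ?_⟩
      set c : X ⧸ S := QuotientGroup.mk b⁻¹
      obtain ⟨s, hs⟩ := QuotientGroup.mk_out_eq_mul S b⁻¹
      have hc := h c
      rw [hs] at hc
      have := (Subgroup.mem_normalizer_iff.1 (hn s.2) _).1 hc
      show b * x * b⁻¹ ∈ A
      rw [show b * x * b⁻¹ = (s : X) * ((b⁻¹ * (s : X))⁻¹ * x * (b⁻¹ * (s : X))) * (s : X)⁻¹ by group]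
      exact this
    · intro h c
      have h2 : c.out⁻¹ * x * c.out⁻¹⁻¹ ∈ N := h c.out⁻¹
      simpa using h2.2
  have hle : N.normalCore ≤ D := (Subgroup.normalCore_le N).trans inf_le_left
  rw [← Subgroup.relIndex_mul_index hle, mul_comm]
  refine Nat.mul_dvd_mul (index_normalCore_dvd S) ?_
  rw [Subgroup.relIndex, ← hker, Subgroup.index_ker]
  refine (Subgroup.card_subgroup_dvd_card _).trans ?_
  haveI := Fintype.ofFinite (X ⧸ S)
  rw [Nat.card_pi]
  calc ∏ c : X ⧸ S, Nat.card (D ⧸ (A.subgroupOf D).comap (MulAut.conjNormal c.out⁻¹).toMonoidHom)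
      ∣ ∏ _c : X ⧸ S, m := by
        refine Finset.prod_dvd_prod_of_dvd _ _ fun c _ => ?_
        rw [← Subgroup.index, Subgroup.index_comap_of_surjective _ (MulEquiv.surjective _)]
        refine dvd_trans ?_ hm
        show A.relIndex D ∣ _
        rw [← Subgroup.relIndex_subgroupOf S.normalCore_le]
        exact Subgroup.relIndex_dvd_index_of_normal _ _
    _ = m ^ S.index := by
        rw [Finset.prod_const, Finset.card_univ, Subgroup.index, Nat.card_eq_fintype_card]

/-- The kernel `core_H (H₁ ⊓ K₁)`. -/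
def secondKernel (H K : Subgroup G) : Subgroup G :=
  coreIn H (coreIn H (H ⊓ K) ⊓ coreIn K (H ⊓ K))

omit [Finite G] in
theorem le_normalizer_secondKernel (H K : Subgroup G) :
    H ≤ Subgroup.normalizer (secondKernel H K : Set G) := le_normalizer_coreIn H _

omit [Finite G] in
theorem secondKernel_le (H K : Subgroup G) : secondKernel H K ≤ coreIn K (H ⊓ K) :=
  (coreIn_le_right _ _).trans inf_le_right

omit [Finite G] in
theorem secondKernel_le_inf (H K : Subgroup G) : secondKernel H K ≤ H ⊓ K :=
  (secondKernel_le H K).trans (coreIn_le_right _ _)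

theorem secondKernel_subnormal (H K : Subgroup G) : ((secondKernel H K).subgroupOf K).IsSubnormal := by
  set H1 := coreIn H (H ⊓ K)
  set K1 := coreIn K (H ⊓ K)
  have h1 : H1 ⊓ K1 ≤ K1 := inf_le_right
  have hK1 : K1 ≤ K := coreIn_le K _
  refine Subgroup.IsSubnormal.step _ ((H1 ⊓ K1).subgroupOf K)
    (fun x hx => coreIn_le_right H (H1 ⊓ K1) hx) ?_ ?_
  · refine Subgroup.IsSubnormal.step _ (K1.subgroupOf K) (fun x hx => h1 hx) ?_ ?_
    · exact Subgroup.Normal.isSubnormal
        ((Subgroup.normal_subgroupOf_iff_le_normalizer hK1).2 (le_normalizer_coreIn K _))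
    · refine (Subgroup.normal_subgroupOf_iff_le_normalizer
        (show (H1 ⊓ K1).subgroupOf K ≤ K1.subgroupOf K from fun x hx => h1 hx)).2 fun x hx => ?_
      rw [Subgroup.mem_normalizer_iff]
      intro y
      exact Subgroup.mem_normalizer_iff.1 (Subgroup.inf_normalizer_le_normalizer_inf
        ⟨le_normalizer_coreIn H _ (coreIn_le_right K _ hx).1, Subgroup.le_normalizer hx⟩) y
  · refine (Subgroup.normal_subgroupOf_iff_le_normalizer
      (show (secondKernel H K).subgroupOf K ≤ (H1 ⊓ K1).subgroupOf K from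
        fun x hx => coreIn_le_right H (H1 ⊓ K1) hx)).2 fun x hx => ?_
    rw [Subgroup.mem_normalizer_iff]
    intro y
    exact Subgroup.mem_normalizer_iff.1 (le_normalizer_secondKernel H K (coreIn_le H _ hx.1)) y

omit [Finite G] in
theorem Pair.card_eq {H K : Subgroup G} (h : Pair H K) : Nat.card K = Nat.card H := by
  obtain ⟨g, rfl⟩ := h.conj
  exact Subgroup.card_map_of_injective (MulAut.conj g).injective

theorem Pair.relIndex_inf_eq {H K : Subgroup G} (h : Pair H K) :
    (H ⊓ K).relIndex K = (H ⊓ K).relIndex H := by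
  have h1 := Subgroup.relIndex_mul_relIndex (⊥ : Subgroup G) (H ⊓ K) H bot_le inf_le_left
  have h2 := Subgroup.relIndex_mul_relIndex (⊥ : Subgroup G) (H ⊓ K) K bot_le inf_le_right
  rw [Subgroup.relIndex_bot_left, Subgroup.relIndex_bot_left] at h1 h2
  rw [h.card_eq, ← h1] at h2
  exact Nat.eq_of_mul_eq_mul_left Nat.card_pos h2

theorem relIndex_secondKernel_dvd {H K : Subgroup G} (h : Pair H K) {d : ℕ}
    (hd : (H ⊓ K).relIndex H = d) : (secondKernel H K).relIndex H ∣ d ! * ((d - 1)!) ^ d := by
  have hK : (coreIn K (H ⊓ K)).relIndex (H ⊓ K) ∣ (d - 1)! := by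
    have h1 := relIndex_coreIn_dvd K (H ⊓ K)
    rw [← Subgroup.relIndex_mul_relIndex _ _ _ (coreIn_le_right K (H ⊓ K)) inf_le_right,
      h.relIndex_inf_eq, hd] at h1
    have hpos : 0 < d := hd ▸ Nat.pos_of_ne_zero Subgroup.index_ne_zero_of_finite
    rw [← Nat.mul_factorial_pred hpos.ne', mul_comm d] at h1
    exact Nat.dvd_of_mul_dvd_mul_right hpos h1
  have hle : coreIn K (H ⊓ K) ≤ H := (coreIn_le_right _ _).trans inf_le_left
  have := index_normalCore_inf_dvd ((H ⊓ K).subgroupOf H) ((coreIn K (H ⊓ K)).subgroupOf H)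
    (fun x hx => coreIn_le_right K (H ⊓ K) hx) (fun x hx => ?_) ((d - 1)!) ?_
  · rw [← Subgroup.relIndex, hd, ← subgroupOf_coreIn H (H ⊓ K)] at this
    rw [secondKernel, Subgroup.relIndex, subgroupOf_coreIn]
    exact this
  · rw [Subgroup.mem_normalizer_iff]
    intro y
    exact Subgroup.mem_normalizer_iff.1 (le_normalizer_coreIn K _ hx.2) y
  · rwa [Subgroup.relIndex_subgroupOf inf_le_left]

theorem Pair.card_dvd_of_eq_bot {H K : Subgroup G} (h : Pair H K) {d : ℕ}
    (hd : (H ⊓ K).relIndex H = d) (hz : secondKernel H K = ⊥ ∨ secondKernel K H = ⊥) :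
    Nat.card H ∣ d ! * ((d - 1)!) ^ d := by
  rcases hz with hz | hz
  · simpa [hz] using relIndex_secondKernel_dvd h hd
  · have hd' : (K ⊓ H).relIndex K = d := by rw [inf_comm, h.relIndex_inf_eq, hd]
    have := relIndex_secondKernel_dvd h.symm hd'
    rw [hz, Subgroup.relIndex_bot_left, h.card_eq] at this
    exact this

/-- Both second kernels nontrivial. -/
theorem Pair.thompson_wielandt {H K : Subgroup G} (h : Pair H K)
    (hP : secondKernel H K ≠ ⊥) (hQ : secondKernel K H ≠ ⊥) :
    ∃ p : ℕ, p.Prime ∧ IsPGroup p (secondKernel H K) ∧ IsPGroup p (secondKernel K H) ∧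
      generalizedFittingSubgroup ↥H = pCore p ↥H :=
  main h (le_normalizer_secondKernel H K) (secondKernel_le H K) (secondKernel_subnormal H K) hP
    (le_normalizer_secondKernel K H) (secondKernel_le K H) (secondKernel_subnormal K H) hQ

/-! ### Point stabilizers in primitive groups -/

variable {Ω : Type*} [MulAction G Ω] [FaithfulSMul G Ω]

omit [Finite G] in
theorem isLocal_stabilizer [Nontrivial Ω] (hprim : IsPreprimitive G Ω) (a : Ω) : IsLocal (stabilizer G a) := by
  intro X hX hne hle
  by_contra hnot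
  have htop : Subgroup.normalizer (X : Set G) = ⊤ := by
    haveI := hprim
    refine (IsPreprimitive.isCoatom_stabilizer_of_isPreprimitive G a).2 _ (lt_of_le_of_ne hle fun e => hnot e.ge)
  haveI : X.Normal := Subgroup.normalizer_eq_top_iff.1 htop
  refine hne ((Subgroup.eq_bot_iff_forall _).2 fun x hx => eq_of_smul_eq_smul (α := Ω) fun w => ?_)
  obtain ⟨g, rfl⟩ := MulAction.exists_smul_eq G a w
  have h1 : (g⁻¹ * x * g) • a = a := hX (Subgroup.Normal.conj_mem' inferInstance x hx g)
  rw [one_smul, mul_smul, mul_smul, inv_smul_eq_iff] at *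
  exact h1

omit [Finite G] [FaithfulSMul G Ω] in
theorem orbit_card_eq_relIndex (a b : Ω) :
    Nat.card (orbit (stabilizer G a) b) = (stabilizer G a ⊓ stabilizer G b).relIndex (stabilizer G a) := by
  rw [Subgroup.inf_relIndex_left, Subgroup.relIndex,
    Nat.card_congr (orbitEquivQuotientStabilizer (stabilizer G a) b), ← Subgroup.index]
  congr 1

omit [Finite G] in
/-- The setting of a nontrivial suborbit. -/
theorem pair_of_suborbit [Finite Ω] (hprim : IsPreprimitive G Ω) (a b : Ω) {d : ℕ}
    (hd : Nat.card (orbit (stabilizer G a) b) = d) (h2 : 2 ≤ d) :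
    Pair (stabilizer G a) (stabilizer G b) ∧
      (stabilizer G a ⊓ stabilizer G b).relIndex (stabilizer G a) = d := by
  have hd' := (orbit_card_eq_relIndex a b).symm.trans hd
  have hab : a ≠ b := by
    rintro rfl
    rw [inf_idem, Subgroup.relIndex_self] at hd'
    omega
  haveI : Nontrivial Ω := ⟨⟨a, b, hab⟩⟩
  refine ⟨⟨isLocal_stabilizer hprim a, isLocal_stabilizer hprim b, ?_, ?_⟩, hd'⟩
  · intro e
    rw [← e, inf_idem, Subgroup.relIndex_self] at hd'
    omega
  · obtain ⟨g, rfl⟩ := MulAction.exists_smul_eq G a b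
    exact ⟨g, stabilizer_smul_eq_stabilizer_map_conj g a⟩

end Cfsg.Agent.Lib.ThompsonWielandt
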