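import Cfsg.Agent.Lib.ThompsonWielandt.Bound

/-!
# `O_p(H ⊓ K) = 1` when it lies in the kernel on the suborbit

Owner: helper64.
-/

set_option autoImplicit false
set_option linter.style.haveILetI false

open Cfsg

namespace Cfsg.Agent.Lib.ThompsonWielandt

theorem Pair.pCoreOf_inf_eq_bot {G : Type*} [Group G] [Finite G] {H K : Subgroup G} (hp : Pair H K) {p : ℕ}
    [Fact p.Prime] (hle : pCoreOf p (H ⊓ K) ≤ coreIn H (H ⊓ K)) : pCoreOf p (H ⊓ K) = ⊥ := by
  set H1 := coreIn H (H ⊓ K) with hH1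
  set X := pCoreOf p (H ⊓ K) with hXdef
  have hXJ : X ≤ H ⊓ K := CharP.pCoreOf_le p _
  have hXn : H ⊓ K ≤ Subgroup.normalizer (X : Set G) := CharP.le_normalizer_pCoreOf p _
  have hXp : IsPGroup p X := CharP.isPGroup_pCoreOf p _
  have hXH1 : X ≤ H1 := hle
  have hXH : H ≤ Subgroup.normalizer (X : Set G) := by
    have e : X = pCoreOf p H1 := le_antisymm
      (CharP.le_pCoreOf hXp hXH1 ((coreIn_le_right _ _).trans hXn))
      (CharP.le_pCoreOf (CharP.isPGroup_pCoreOf p H1) ((CharP.pCoreOf_le p H1).trans (coreIn_le_right _ _))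
        (inf_le_left.trans ?_))
    · rw [e]
      refine (Subgroup.normal_subgroupOf_iff_le_normalizer ((CharP.pCoreOf_le p H1).trans (coreIn_le _ _))).1 ?_
      haveI : (H1.subgroupOf H).Normal :=
        (Subgroup.normal_subgroupOf_iff_le_normalizer (coreIn_le _ _)).2 (le_normalizer_coreIn _ _)
      have e2 : (pCoreOf p H1).subgroupOf H = (pCore p ↥(H1.subgroupOf H)).map (H1.subgroupOf H).subtype := by
        rw [← Cores.map_pCore_equiv (Subgroup.subgroupOfEquivOfLe (coreIn_le H (H ⊓ K))).symm,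
          Subgroup.map_map]
        apply Subgroup.map_injective H.subtype_injective
        rw [Subgroup.map_subgroupOf_eq_of_le ((CharP.pCoreOf_le p H1).trans (coreIn_le _ _)), Subgroup.map_map]
        rfl
      rw [e2]
      infer_instance
    · intro h hh
      rw [Subgroup.mem_normalizer_iff_map_conj_eq]
      have hn := Subgroup.mem_normalizer_iff_map_conj_eq.1 (le_normalizer_coreIn H (H ⊓ K) hh)
      have e3 := Cores.map_pCore_equiv (p := p)
        ((H1.equivMapOfInjective (MulAut.conj h).toMonoidHom (MulAut.conj h).injective).trans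
          (MulEquiv.subgroupCongr hn))
      conv_rhs => rw [pCoreOf, ← e3, Subgroup.map_map]
      rw [pCoreOf, Subgroup.map_map]
      rfl
  by_contra hne
  have hXV : X ≤ pCoreOf p H := CharP.le_pCoreOf hXp (hXJ.trans inf_le_left) hXH
  have hWV := hp.card_pCoreOf p
  set W := pCoreOf p K with hWdef
  have hW : W ≠ ⊥ := fun h => hne (le_bot_iff.1 (hXV.trans (le_of_eq
    (Subgroup.card_eq_one.1 (by rw [← hWV]; exact Subgroup.card_eq_one.2 h)))))
  have hXW : X ≤ Subgroup.normalizer (W : Set G) :=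
    (hXJ.trans inf_le_right).trans (CharP.le_normalizer_pCoreOf p K)
  have hS : IsPGroup p (X ⊔ W : Subgroup G) :=
    hXp.to_sup_of_normal_right' (CharP.isPGroup_pCoreOf p K) hXW
  have hWX : W ≤ X := by
    by_contra hc
    obtain ⟨s, hs, hsX, hsn⟩ := exists_normalizer_gt hS le_sup_left fun h => hc (le_sup_right.trans h)
    rw [← SetLike.mem_coe, Subgroup.coe_mul_of_left_le_normalizer_right _ _ hXW] at hs
    obtain ⟨x, hx, w, hw, rfl⟩ := hs
    have hsH : x * w ∈ H := hp.locH X (hXJ.trans inf_le_left) hne hXH hsn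
    have hwH : w ∈ H := by simpa using H.mul_mem (H.inv_mem (hXJ hx).1) hsH
    have hwJ : W ⊓ H ≤ X := CharP.le_pCoreOf ((CharP.isPGroup_pCoreOf p K).to_le inf_le_left)
      (fun y hy => ⟨hy.2, CharP.pCoreOf_le p K hy.1⟩)
      (fun y hy => Subgroup.inf_normalizer_le_normalizer_inf
        ⟨CharP.le_normalizer_pCoreOf p K hy.2, Subgroup.le_normalizer hy.1⟩)
    exact hsX (X.mul_mem hx (hwJ ⟨hw, hwH⟩))
  have heq : W = pCoreOf p H := Subgroup.eq_of_le_of_card_ge (hWX.trans hXV) hWV.ge
  exact hW (hp.eq_bot ((hWX.trans hXJ).trans inf_le_left) (CharP.pCoreOf_le p K)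
    (heq ▸ CharP.le_normalizer_pCoreOf p H) (CharP.le_normalizer_pCoreOf p K))

end Cfsg.Agent.Lib.ThompsonWielandt
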